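import Cfsg.Agent.H421.Act

/-!
# Frobenius subgroups from a Sylow count (helper416, task 1829)

`sylow_frob` : `|S| = a m`, `a ∤ m`, `a` isolated: `m ≡ w (mod a)` with `w ∣ a - 1`, and a Frobenius subgroup of order `a w`.
-/

set_option autoImplicit false

namespace Cfsg.Agent.H416.Sp

open Subgroup Cfsg.Agent.H421.Act

theorem sylow_frob {S : Type*} [Group S] [Finite S] {a m : ℕ} (ha : a.Prime) (hm : Nat.card S = a * m)
    (ham : ¬ a ∣ m) (hiso : ∀ r : ℕ, r.Prime → r ≠ a → ∀ g : S, orderOf g ≠ a * r) :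
    ∃ w : ℕ, w ∣ a - 1 ∧ m ≡ w [MOD a] ∧
      ∃ x h : S, orderOf x = a ∧ orderOf h = w ∧ (∀ y ∈ zpowers x, h * y * h⁻¹ ∈ zpowers x) ∧
        ∀ i, 0 < i → i < w → ∀ y ∈ zpowers x, h ^ i * y = y * h ^ i → y = 1 := by
  classical
  have hfa : Fact a.Prime := ⟨ha⟩
  obtain ⟨P⟩ : Nonempty (Sylow a S) := inferInstance
  have hm0 : m ≠ 0 := fun h => ham (h ▸ dvd_zero a)
  have hcP : Nat.card P = a := by
    rw [Sylow.card_eq_multiplicity, hm, Nat.factorization_mul ha.ne_zero hm0, Finsupp.add_apply,
      ha.factorization_self, Nat.factorization_eq_zero_of_not_dvd ham, add_zero, pow_one]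
  have hcyc : IsCyclic P := isCyclic_of_prime_card hcP
  have hPcomm : ∀ x ∈ P, ∀ y ∈ P, x * y = y * x := fun x hx y hy =>
    congrArg Subtype.val (isMulCommutative_iff.1 hcyc.isMulCommutative (⟨x, hx⟩ : P) ⟨y, hy⟩)
  obtain ⟨q, hq⟩ : ∃ q : P, orderOf q = a := exists_prime_orderOf_dvd_card' (G := P) a (by rw [hcP])
  have hqo : orderOf (q : S) = a := by rw [Subgroup.orderOf_coe, hq]
  have hPz : (P : Subgroup S) = zpowers (q : S) := by
    symm
    apply Subgroup.eq_of_le_of_card_ge (zpowers_le.2 q.2)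
    rw [Nat.card_zpowers, hqo]
    exact hcP.le
  let C : Subgroup S := centralizer (P : Set S)
  have hPC : (P : Subgroup S) ≤ C := fun x hx => mem_centralizer_iff.2 fun y hy => hPcomm y hy x hx
  have hCp : IsPGroup a C := by
    rw [IsPGroup.iff_orderOf]
    intro c
    have h1 : ∀ r : ℕ, r.Prime → r ∣ orderOf c → r = a := by
      intro r hr hrc
      by_contra hne
      have h2 : Commute (q : S) (c : S) := (mem_centralizer_iff.1 c.2 _ q.2)
      obtain ⟨y, hy⟩ := exists_mul_order h2 ha hr (fun h => hne h.symm) (by rw [hqo])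
        (by rw [Subgroup.orderOf_coe]; exact hrc)
      exact hiso r hr hne y hy
    exact ⟨_, Nat.eq_prime_pow_of_unique_prime_dvd (orderOf_pos c).ne' fun {d} hd hd' => h1 d hd hd'⟩
  have hcC : Nat.card C = a := by
    obtain ⟨k, hk⟩ := IsPGroup.iff_card.1 hCp
    have h1 : a ∣ Nat.card C := by
      rw [← hcP]
      exact Subgroup.card_dvd_of_le hPC
    have h2 : Nat.card C ∣ a * m := hm ▸ Subgroup.card_subgroup_dvd_card C
    have h3 : ¬ a ^ 2 ∣ a * m := by
      rw [pow_two]
      intro h
      exact ham (Nat.dvd_of_mul_dvd_mul_left ha.pos h)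
    have hk1 : k ≤ 1 := by
      by_contra h
      apply h3
      refine (pow_dvd_pow a (by omega : 2 ≤ k)).trans ?_
      rw [← hk]
      exact h2
    have hk0 : k ≠ 0 := by
      rintro rfl
      rw [hk, pow_zero] at h1
      exact ha.one_lt.ne' (Nat.dvd_one.1 h1)
    have : k = 1 := by omega
    rw [hk, this, pow_one]
  let N : Subgroup S := normalizer (P : Set S)
  have hCN : C ≤ N := by
    intro c hc
    change c ∈ normalizer ((P : Subgroup S) : Set S)
    rw [mem_normalizer_iff]
    have h1 : ∀ c ∈ C, ∀ y ∈ (P : Subgroup S), c * y * c⁻¹ = y := by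
      intro c hc y hy
      rw [← mem_centralizer_iff.1 hc y hy, mul_inv_cancel_right]
    intro y
    refine ⟨fun hy => by rw [h1 c hc y hy]; exact hy, fun hy => ?_⟩
    have h2 := h1 c⁻¹ (C.inv_mem hc) _ hy
    have h3 : c⁻¹ * (c * y * c⁻¹) * c⁻¹⁻¹ = y := by group
    rw [h3] at h2
    rw [h2]
    exact hy
  have key : C.relIndex N ∣ a - 1 := by
    have key := card_dvd_of_injective _ (QuotientGroup.kerLift_injective (P : Subgroup S).normalizerMonoidHom)
    rw [normalizerMonoidHom_ker, ← index, ← relIndex, hcyc.card_mulAut, hcP, Nat.totient_prime ha] at key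
    exact key
  have hcN : Nat.card N = a * C.relIndex N := by
    have h3 := Subgroup.relIndex_mul_relIndex ⊥ C N bot_le hCN
    rw [Subgroup.relIndex_bot_left, Subgroup.relIndex_bot_left, hcC] at h3
    exact h3.symm
  -- the cyclic group of automorphisms
  set w := C.relIndex N with hw
  have hw0 : 0 < w := Nat.pos_of_dvd_of_pos key (Nat.sub_pos_of_lt ha.one_lt)
  have hwa : Nat.Coprime w a := by
    rw [Nat.coprime_comm, Nat.Prime.coprime_iff_not_dvd ha]
    intro h
    have h1 := Nat.le_of_dvd (Nat.sub_pos_of_lt ha.one_lt) (h.trans key)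
    have := ha.pos
    omega
  let θ := (P : Subgroup S).normalizerMonoidHom
  have hcycA : IsCyclic (MulAut P) := by
    have e := IsCyclic.mulAutMulEquiv P
    rw [hcP] at e
    exact isCyclic_of_surjective e.symm e.symm.surjective
  have hrange : Nat.card θ.range = w := by
    have h1 := Nat.card_congr (QuotientGroup.quotientKerEquivRange θ).toEquiv
    rw [← h1, ← Subgroup.index_eq_card, normalizerMonoidHom_ker]
    rfl
  obtain ⟨⟨_, n, rfl⟩, hn⟩ := (IsCyclic.exists_generator : ∃ g : θ.range, ∀ x, x ∈ zpowers g)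
  have hθn : orderOf (θ n) = w := by
    have h1 := orderOf_eq_card_of_forall_mem_zpowers hn
    rw [hrange, ← Subgroup.orderOf_coe] at h1
    exact h1
  have hnw : (n : S) ^ w ∈ (P : Subgroup S) := by
    have h1 : n ^ w ∈ θ.ker := by
      rw [MonoidHom.mem_ker, map_pow, ← hθn, pow_orderOf_eq_one]
    rw [normalizerMonoidHom_ker, mem_subgroupOf] at h1
    have h2 : (P : Subgroup S) = C := Subgroup.eq_of_le_of_card_ge hPC (by
      rw [hcC]; exact hcP.ge)
    have h3 : (n : S) ^ w ∈ C := h1
    exact h2.ge h3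
  set h : N := n ^ a with hh
  have hall : ∀ y : P, (y : S) ^ a = 1 := by
    intro y
    have h1 : orderOf y ∣ Nat.card P := orderOf_dvd_natCard _
    rw [hcP] at h1
    exact congrArg Subtype.val (orderOf_dvd_iff_pow_eq_one.1 h1)
  have hhw : h ^ w = 1 := by
    apply Subtype.ext
    rw [hh, ← pow_mul, mul_comm, pow_mul]
    exact hall ⟨_, hnw⟩
  have hθh : orderOf (θ h) = w := by
    rw [hh, map_pow, orderOf_pow' _ ha.ne_zero, hθn, hwa, Nat.div_one]
  have hho : orderOf h = w :=
    Nat.dvd_antisymm (orderOf_dvd_of_pow_eq_one hhw) (hθh ▸ orderOf_map_dvd θ h)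
  refine ⟨w, key, ?_, q, h, hqo, by rw [Subgroup.orderOf_coe, hho], ?_, ?_⟩
  · have h2 : Nat.card N * Nat.card (Sylow a S) = a * m := by
      rw [Sylow.card_eq_index_normalizer P, Subgroup.card_mul_index, hm]
    rw [hcN, mul_assoc] at h2
    have h3 : w * Nat.card (Sylow a S) = m := Nat.eq_of_mul_eq_mul_left ha.pos h2
    have h4 := (Nat.ModEq.refl (n := a) w).mul (card_sylow_modEq_one a S)
    rw [h3, mul_one] at h4
    exact h4
  · intro y hy
    rw [← hPz] at hy ⊢
    exact (mem_normalizer_iff.1 h.2 y).1 hy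
  · intro i hi0 hiw y hy hcomm
    by_contra hy1
    rw [← hPz] at hy
    -- `y` generates `P`
    have hyo : orderOf y = a := by
      have h1 : orderOf y ∣ a := by
        rw [← hcP, ← Subgroup.orderOf_mk y hy]
        exact orderOf_dvd_natCard _
      rcases (Nat.dvd_prime ha).1 h1 with h2 | h2
      · exact absurd (orderOf_eq_one_iff.1 h2) hy1
      · exact h2
    have hPy : (P : Subgroup S) = zpowers y := by
      symm
      apply Subgroup.eq_of_le_of_card_ge (zpowers_le.2 hy)
      rw [Nat.card_zpowers, hyo]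
      exact hcP.le
    have h1 : h ^ i ∈ θ.ker := by
      rw [normalizerMonoidHom_ker, mem_subgroupOf, mem_centralizer_iff]
      intro u hu
      rw [SetLike.mem_coe, hPy] at hu
      obtain ⟨k, rfl⟩ := hu
      have h2 : Commute ((h : S) ^ i) y := hcomm
      have h3 := (h2.zpow_right k).eq
      rw [Subgroup.coe_pow]
      exact h3.symm
    have h2 : w ∣ i := by
      rw [← hθh]
      apply orderOf_dvd_of_pow_eq_one
      rw [← map_pow, MonoidHom.mem_ker.1 h1]
    exact absurd (Nat.le_of_dvd hi0 h2) (by omega)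

end Cfsg.Agent.H416.Sp
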