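import Cfsg.Agent.H416.Sp.Frame

/-!
# Groups with the spectrum of `Alt n`, `Sym n`, `n = 13, 14`: the elimination (helper416, task 1829)
-/

set_option autoImplicit false

namespace Cfsg.Agent.H416.Sp

open Cfsg Subgroup Cfsg.Agent.H357.Sp Cfsg.Agent.H414.Comp Cfsg.Agent.H414.Rad Cfsg.Agent.H31.SpFront
open Cfsg.Agent.H267.Sp.SpecAlt Cfsg.Agent.OrdDiv Cfsg.Agent.H436 Cfsg.Agent.H421

theorem nl_check : ∀ g ∈ Narrow.NL, 13 ∣ ordN g → (7 ∣ ordN g ∨ 11 ∣ ordN g) → (5 ∣ ordN g ∨ 11 ∣ ordN g) →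
    g ∈ [Grp.alt 13, .alt 14, .alt 15, .alt 16] ∨ g = .suz ∨ g = .fi22 ∨ g = .psl 5 3 ∨ g = .psl 6 3 ∨
    (¬ 11 ∣ ordN g ∧ ordN g = 13 * (ordN g / 13) ∧ ¬ 13 ∣ ordN g / 13 ∧
      (5 ^ 2 ∣ ordN g ∨ ordN g / 13 % 13 ∈ [4, 6, 7, 8, 10])) := by
  decide +kernel

variable {ε n : ℕ} {G : Type} [Group G] [Finite G] {K : Subgroup G} [K.Normal] {S : Subgroup (G ⧸ K)} [S.Normal]

/-- the order from a Frobenius subgroup of `S` -/
theorem Frm.frob (D : Frm ε n G K S) {t : ℕ} (ht : t.Prime) (htK : t ∣ Nat.card ↥K) (A : Subgroup ↥S) (hA1 : A ≠ ⊥)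
    (hcop : Nat.Coprime (Nat.card A) t) (h : ↥S) (hn : ∀ y ∈ A, h * y * h⁻¹ ∈ A)
    (hf : ∀ i, 0 < i → i < orderOf h → ∀ y ∈ A, h ^ i * y = y * h ^ i → y = 1) :
    ∃ g : G, orderOf g = t * orderOf h := by
  have h1 := frob_order K (a := 13) (t := t) (by norm_num) (D.dvdG (by norm_num) (by norm_num) le_rfl) D.no13.1 D.iso13 ht htK S
    D.comp.simple D.d13 (A.map S.subtype) (by rintro _ ⟨y, -, rfl⟩; exact y.2)
    (by
      intro h2
      rw [Subgroup.map_eq_bot_iff_of_injective _ S.subtype_injective] at h2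
      exact hA1 h2)
    (by rw [Subgroup.card_map_of_injective S.subtype_injective]; exact hcop) (h : G ⧸ K)
    (by
      rintro _ ⟨y, hy, rfl⟩
      exact ⟨h * y * h⁻¹, hn y hy, rfl⟩)
    (by
      rintro i hi0 hi _ ⟨y, hy, rfl⟩ hc
      rw [Subgroup.orderOf_coe] at hi
      have h2 := hf i hi0 hi y hy (Subtype.ext hc)
      rw [h2]; rfl)
  rw [Subgroup.orderOf_coe] at h1
  exact h1

theorem Frm.dvdK (D : Frm ε n G K S) (h11 : ¬ 11 ∣ Nat.card ↥S) {m : ℕ} (hm : Nat.card ↥S = 13 * m) (hm13 : ¬ 13 ∣ m) :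
    11 ∣ Nat.card ↥K := by
  have p11 : Nat.Prime 11 := by norm_num
  have p13 : Nat.Prime 13 := by norm_num
  have hm0 : m ≠ 0 := fun h => hm13 (h ▸ dvd_zero 13)
  have h1 : ¬ 11 ∣ Nat.card (G ⧸ K) := by
    intro hd
    have hf : (Nat.card ↥S).factorization 13 = 1 := by
      rw [hm, Nat.factorization_mul (by norm_num) hm0, Finsupp.add_apply, p13.factorization_self,
        Nat.factorization_eq_zero_of_not_dvd hm13]
    obtain ⟨g, hg⟩ := Act.exists_mul_of_card S p13 p11 h11 hd (by rw [hf]; decide) (by norm_num)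
    obtain ⟨g', hg'⟩ := lift_order (K := K) ⟨g, hg⟩
    exact D.iso13 11 p11 (by norm_num) g' hg'
  have h2 := D.dvdG p11 (by norm_num) (by norm_num)
  have h3 : Nat.card G = Nat.card ↥K * Nat.card (G ⧸ K) := by
    rw [mul_comm]
    exact Subgroup.card_eq_card_quotient_mul_card_subgroup K
  rw [h3] at h2
  exact (p11.dvd_mul.1 h2).resolve_right h1

/-- the groups without 11 -/
theorem Frm.false_eleven (D : Frm ε n G K S) (h11 : ¬ 11 ∣ Nat.card ↥S) {m : ℕ} (hm : Nat.card ↥S = 13 * m)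
    (hm13 : ¬ 13 ∣ m) (hc : 5 ^ 2 ∣ Nat.card ↥S ∨ m % 13 ∈ [4, 6, 7, 8, 10]) : False := by
  have p5 : Nat.Prime 5 := by norm_num
  have p11 : Nat.Prime 11 := by norm_num
  have p13 : Nat.Prime 13 := by norm_num
  have hn14 : n ≤ 14 := by rcases D.hn with h | h <;> omega
  have hK := D.dvdK h11 hm hm13
  rcases hc with h25 | hw
  · refine Cfsg.Agent.H403.false_of_rank K p11 p5 (by norm_num) hK ?_ (h25.trans (Dvd.intro _ D.card.symm)) ?_ ?_
    · intro h5
      exact D.coc 11 5 13 p11 p5 p13 (by norm_num) (by norm_num) (by norm_num) (by norm_num) (by norm_num) (by norm_num)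
        (by norm_num) (by norm_num) (by norm_num) (by omega) (by omega) (by omega) (hK.mul_right _) (h5.mul_right _)
    · rintro ⟨x, hx⟩
      exact Spec.no_two D.spec p11 p5 (by norm_num) (by omega) x hx
    · rintro ⟨x, hx⟩
      exact Spec.no_of_W D.spec (by rw [W25]; omega) x hx
  · obtain ⟨w, hw12, hmw, x, h, hx, hh, hn, hf⟩ := sylow_frob p13 hm hm13 fun r hr hr13 g hg => by
      obtain ⟨g', hg'⟩ := lift_order' (K := K) (S := S) ⟨g, hg⟩
      exact D.iso13 r hr hr13 g' hg'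
    have hwle : w ≤ 12 := Nat.le_of_dvd (by norm_num) hw12
    have hwm : m % 13 = w := by
      have h1 : m % 13 = w % 13 := hmw
      rw [h1, Nat.mod_eq_of_lt (by omega)]
    rw [hwm] at hw
    have hw' : w = 4 ∨ w = 6 := by
      revert hw12 hw
      clear hwm hmw hh hf
      interval_cases w <;> decide
    have hcA : Nat.card (zpowers x) = 13 := by rw [Nat.card_zpowers, hx]
    obtain ⟨g, hg⟩ := D.frob p11 hK (zpowers x) (by
        intro h2
        rw [h2, Subgroup.card_bot] at hcA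
        norm_num at hcA)
      (by rw [hcA]; norm_num) h hn (by rw [hh]; exact hf)
    rw [hh] at hg
    rcases hw' with rfl | rfl
    · exact Spec.no_of_W D.spec (by rw [W44]; omega) g hg
    · exact Spec.no_of_W D.spec (by rw [W66]; omega) g hg

/-- the Suzuki group -/
theorem Frm.false_suz (D : Frm ε n G K S) (hS : Spor.IsoSuz ↥S) : False := by
  have p5 : Nat.Prime 5 := by norm_num
  have p7 : Nat.Prime 7 := by norm_num
  have p11 : Nat.Prime 11 := by norm_num
  have hn14 : n ≤ 14 := by rcases D.hn with h | h <;> omega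
  have hn13 : 13 ≤ n := by rcases D.hn with h | h <;> omega
  have key : ∀ t : ℕ, t = 5 ∨ t = 7 → ¬ t ∣ Nat.card ↥K := by
    intro t ht htK
    have htp : t.Prime := by rcases ht with rfl | rfl <;> assumption
    obtain ⟨A, x, hA, hA1, hx, hn, hf⟩ := SuzF.suz_frob hS
    obtain ⟨g, hg⟩ := D.frob htp htK A hA1 (by
      obtain ⟨k, hk⟩ := IsPGroup.iff_card.1 hA
      rw [hk]
      apply Nat.Coprime.pow_left
      rcases ht with rfl | rfl <;> norm_num) x hn (by rw [hx]; exact hf)
    rw [hx] at hg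
    rcases ht with rfl | rfl
    · exact Spec.no_two D.spec p5 p11 (by norm_num) (by omega) g hg
    · exact Spec.no_two D.spec p7 p11 (by norm_num) (by omega) g hg
  obtain ⟨g, hg⟩ := D.spec.down 35 (by norm_num) (by
    rw [if_neg (by decide), W35]; omega)
  have h1 : orderOf (QuotientGroup.mk' K g) = 35 := by
    apply Nat.dvd_antisymm
    · rw [← hg]; exact orderOf_map_dvd _ _
    · set j := orderOf (QuotientGroup.mk' K g) with hj
      have h2 : (QuotientGroup.mk' K g) ^ j = 1 := pow_orderOf_eq_one _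
      rw [← map_pow, QuotientGroup.mk'_apply, QuotientGroup.eq_one_iff] at h2
      have h3 : orderOf (g ^ j) ∣ Nat.card ↥K := by
        have := orderOf_dvd_natCard (⟨g ^ j, h2⟩ : K)
        rwa [Subgroup.orderOf_mk] at this
      have h4 : orderOf (g ^ j) ∣ 35 := by rw [← hg]; exact orderOf_pow_dvd j
      have h5 : Nat.Coprime 35 (Nat.card ↥K) := by
        rw [show (35 : ℕ) = 5 * 7 by norm_num]
        exact Nat.Coprime.mul_left ((Nat.Prime.coprime_iff_not_dvd p5).2 (key 5 (Or.inl rfl)))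
          ((Nat.Prime.coprime_iff_not_dvd p7).2 (key 7 (Or.inr rfl)))
      have h6 : orderOf (g ^ j) = 1 := Nat.eq_one_of_dvd_coprimes h5 h4 h3
      rw [← hg]
      exact orderOf_dvd_of_pow_eq_one (orderOf_eq_one_iff.1 h6)
  have h2 : QuotientGroup.mk' K g ∈ S := SuzN.mem_of_odd S D.cent hS (by rw [h1]; decide)
  exact SuzN.no_35 hS ⟨_, h2⟩ (by rw [Subgroup.orderOf_mk, h1])

/-- **The rows.** -/
theorem Frm.top (D : Frm ε n G K S) (hk : AllKnown) : ∃ m, 13 ≤ m ∧ m ≤ n ∧ Top m K := by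
  have hn14 : n ≤ 14 := by rcases D.hn with h | h <;> omega
  have hn13 : 13 ≤ n := by rcases D.hn with h | h <;> omega
  have hsimp := D.comp.simple
  obtain ⟨g, hg⟩ := exists_named table (hk ↥S) (by
    intro hc
    obtain ⟨a, b, hab⟩ := D.comp.noncomm
    exact hab (hc a b))
  have hNL := Narrow.narrow hg D.sm
  have hord : Nat.card ↥S = ordN g := hg.ord
  have h1 := nl_check g hNL (by rw [← hord]; exact D.d13) (by rw [← hord]; exact D.d1) (by rw [← hord]; exact D.d4)
  rw [← hord] at h1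
  rcases h1 with h1 | rfl | rfl | rfl | rfl | ⟨h11, hm, hm13, hc⟩
  · simp only [List.mem_cons, List.not_mem_nil, or_false] at h1
    have halt : ∀ m : ℕ, g = .alt m → 13 ≤ m → m ≤ 16 → ∃ m, 13 ≤ m ∧ m ≤ n ∧ Top m K := by
      rintro m rfl hm1 hm2
      have he : Nonempty (↥S ≃* alternatingGroup (Fin m)) := hg.real
      have h15 : ¬ 15 ≤ m := by
        intro h15
        have h2 := alt_le D.spec he (k := 105) (by norm_num) (by rw [if_neg (by decide), W105]; omega)
        rw [if_neg (by decide), W105] at h2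
        omega
      refine ⟨m, hm1, ?_, top_of_alt D.cent (by omega) he⟩
      by_contra hlt
      have h2 := alt_le D.spec he (k := 33) (by norm_num) (by rw [if_neg (by decide), W33]; omega)
      rw [if_neg (by decide), W33] at h2
      omega
    rcases h1 with h1 | h1 | h1 | h1
    · exact halt 13 h1 (by norm_num) (by norm_num)
    · exact halt 14 h1 (by norm_num) (by norm_num)
    · exact halt 15 h1 (by norm_num) (by norm_num)
    · exact halt 16 h1 (by norm_num) (by norm_num)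
  · exact (D.false_suz hg.real).elim
  · exfalso
    obtain ⟨s, hs⟩ := lift_order' (K := K) (S := S) (FiO.fi22_16 hg.real)
    exact Spec.no_of_W D.spec (by rw [W16]; omega) s hs
  · exfalso
    obtain ⟨s, hs⟩ := lift_order' (K := K) (S := S) (LThree.psl_121 (Or.inl rfl) hg.real)
    exact Spec.no_of_W D.spec (by rw [W121]; omega) s hs
  · exfalso
    obtain ⟨s, hs⟩ := lift_order' (K := K) (S := S) (LThree.psl_121 (Or.inr rfl) hg.real)
    exact Spec.no_of_W D.spec (by rw [W121]; omega) s hs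
  · exact (D.false_eleven h11 hm hm13 hc).elim

/-- the rows over the classification and Vasil'ev's theorem -/
theorem row_of (hk : AllKnown) (hV : ∀ (G : Type) [Group G] [Finite G], VM G) {ε n : ℕ} (hn : n = 13 ∨ n = 14) :
    Row ε n 13 := by
  intro G _ _ h
  obtain ⟨K, hKn, S, hSn, D⟩ := frame hn (hV G) h
  exact ⟨K, hKn, D.solv, D.top hk⟩

end Cfsg.Agent.H416.Sp
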