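import Cfsg.Agent.H852.Fi22Rep

/-!
# An element of order 16 in the Fischer group Fi22 (helper416, task 1829)
-/

set_option autoImplicit false

namespace Cfsg.Agent.H416.Sp.FiO

open Cfsg.Agent.Lib.PackMat Cfsg.Agent.H852.Fi22Data Cfsg.Agent.H852.Fi22Rep Cfsg.Spor

/-- the word -/
def w : List Fi22.Gen := [.d, .c, .b, .e, .c, .g, .i, .h, .d, .e, .c, .a, .d, .h, .f, .e]

/-- the powers as lists of codes -/
def wl (k : ℕ) : List ℕ := ((List.replicate k w).flatten).map code

theorem run16 : Nat.beq (run C (wl 16) (unitRow C 1 0)) (unitRow C 1 0) = true := by decide +kernel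

theorem run8 : Nat.beq (run C (wl 8) (unitRow C 1 0)) (unitRow C 1 0) = false := by decide +kernel

theorem rho_word (v : List Fi22.Gen) : (rho (v.map PresentedGroup.of).prod).val = mw v := by
  have h1 : rho (v.map PresentedGroup.of).prod = (v.map gl).prod := by
    induction v with
    | nil => simp
    | cons x v ih => rw [List.map_cons, List.prod_cons, map_mul, ih, rho_of, List.map_cons, List.prod_cons]
  rw [h1, coe_word]

/-- the element -/
noncomputable def g : Fi22 := (w.map PresentedGroup.of).prod

theorem rho_g : (rho g).val = mw w := rho_word w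

theorem mw_pow (k : ℕ) : mw w ^ k = mw (List.replicate k w).flatten := by
  induction k with
  | zero => rw [pow_zero]; rfl
  | succ k ih => rw [pow_succ', ih, List.replicate_succ, List.flatten_cons, mw_append]

/-- the vector -/
noncomputable def u : Fin 78 → ZMod 13 := rowVec C (unitRow C 1 0)

theorem vec_pow (k : ℕ) : Matrix.vecMul u (mw w ^ k) = rowVec C (run C (wl k) (unitRow C 1 0)) := by
  have hG := good_of_check good
  rw [mw_pow]
  exact ((run_spec hG (wl k) (ok_map _) (unitRow_ok hG one_lt_p (by decide)).1).2).symm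

theorem u16 : Matrix.vecMul u (mw w ^ 16) = u := by
  rw [vec_pow, Nat.eq_of_beq_eq_true run16]; rfl

theorem u8 : Matrix.vecMul u (mw w ^ 8) ≠ u := by
  intro h
  rw [vec_pow] at h
  have hG := good_of_check good
  have h1 := rowVec_injOn (run_spec hG (wl 8) (ok_map _) (unitRow_ok hG one_lt_p (by decide)).1).1
    (unitRow_ok hG one_lt_p (by decide)).1 h
  have h2 := run8
  rw [h1, Nat.beq_refl] at h2
  exact absurd h2 (by decide)

theorem dvd_order : 16 ∣ orderOf g := by
  let T : (Fin 78 → ZMod 13) → (Fin 78 → ZMod 13) := fun v => Matrix.vecMul v (mw w)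
  have hT : ∀ k : ℕ, T^[k] u = Matrix.vecMul u (mw w ^ k) := by
    intro k
    induction k with
    | zero => simp
    | succ k ih =>
      rw [Function.iterate_succ_apply', ih]
      change Matrix.vecMul (Matrix.vecMul u (mw w ^ k)) (mw w) = _
      rw [Matrix.vecMul_vecMul, ← pow_succ]
  have h16 : Function.minimalPeriod T u ∣ 2 ^ 4 := by
    apply Function.IsPeriodicPt.minimalPeriod_dvd
    change T^[2 ^ 4] u = u
    rw [hT]
    exact u16
  obtain ⟨j, hj, hj'⟩ := (Nat.dvd_prime_pow Nat.prime_two).1 h16
  have h8 : ¬ Function.minimalPeriod T u ∣ 8 := by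
    intro h
    have h1 : Function.IsPeriodicPt T 8 u := Function.isPeriodicPt_iff_minimalPeriod_dvd.2 h
    change T^[8] u = u at h1
    rw [hT] at h1
    exact u8 h1
  have hj4 : j = 4 := by
    by_contra hne
    apply h8
    rw [hj']
    exact pow_dvd_pow 2 (show j ≤ 3 by omega)
  have h1 : Function.minimalPeriod T u ∣ orderOf g := by
    apply Function.IsPeriodicPt.minimalPeriod_dvd
    change T^[orderOf g] u = u
    rw [hT]
    have h2 : mw w ^ orderOf g = 1 := by
      rw [← rho_g, ← Units.val_pow_eq_pow_val, ← map_pow, pow_orderOf_eq_one, map_one, Units.val_one]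
    rw [h2, Matrix.vecMul_one]
  rw [hj', hj4] at h1
  exact h1

/-- **Elements of order 16.** -/
theorem fi22_16 {S : Type*} [Group S] [Finite S] (h : Spor.IsoFi22 S) : ∃ s : S, orderOf s = 16 := by
  obtain ⟨φ⟩ := h
  have h1 : 16 ∣ orderOf (φ.symm g) := by
    rw [MulEquiv.orderOf_eq]
    exact dvd_order
  exact ⟨_, orderOf_pow_orderOf_div (orderOf_pos _).ne' h1⟩

end Cfsg.Agent.H416.Sp.FiO
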