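import Cfsg.Agent.LieClassical.FieldTransfer
import Cfsg.Agent.OrdDiv.Main

/-!
# Elements of order 121 in `PSL₅(3)` and `PSL₆(3)` (helper416, task 1829)
-/

set_option autoImplicit false

namespace Cfsg.Agent.H416.Sp.LThree

open Cfsg Matrix

universe u

/-- a matrix of order 121 -/
def A5 : Matrix (Fin 5) (Fin 5) (ZMod 3) :=
  !![0, 0, 0, 0, 1; 1, 0, 0, 0, 0; 0, 1, 0, 0, 0; 0, 0, 1, 0, 0; 0, 0, 0, 1, 2]

/-- its 11th power -/
def B5 : Matrix (Fin 5) (Fin 5) (ZMod 3) :=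
  !![2, 2, 0, 1, 2; 0, 2, 2, 0, 1; 1, 0, 2, 2, 0; 2, 1, 0, 2, 2; 2, 0, 1, 2, 0]

/-- a matrix of order 121 -/
def A6 : Matrix (Fin 6) (Fin 6) (ZMod 3) :=
  !![0, 0, 0, 0, 1, 0; 1, 0, 0, 0, 0, 0; 0, 1, 0, 0, 0, 0; 0, 0, 1, 0, 0, 0; 0, 0, 0, 1, 2, 0; 0, 0, 0, 0, 0, 1]

/-- its 11th power -/
def B6 : Matrix (Fin 6) (Fin 6) (ZMod 3) :=
  !![2, 2, 0, 1, 2, 0; 0, 2, 2, 0, 1, 0; 1, 0, 2, 2, 0, 0; 2, 1, 0, 2, 2, 0; 2, 0, 1, 2, 0, 0; 0, 0, 0, 0, 0, 1]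

theorem A5_pow : A5 ^ 11 = B5 := by decide +kernel
theorem B5_pow : B5 ^ 11 = 1 := by decide +kernel
theorem B5_ne : ∀ r : ZMod 3, Matrix.scalar (Fin 5) r ≠ B5 := by decide +kernel
theorem A6_pow : A6 ^ 11 = B6 := by decide +kernel
theorem B6_pow : B6 ^ 11 = 1 := by decide +kernel
theorem B6_ne : ∀ r : ZMod 3, Matrix.scalar (Fin 6) r ≠ B6 := by decide +kernel

theorem exists_of {n : ℕ} {A B : Matrix (Fin n) (Fin n) (ZMod 3)} (hA : A ^ 11 = B) (hB : B ^ 11 = 1)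
    (hn : ∀ r : ZMod 3, Matrix.scalar (Fin n) r ≠ B) :
    ∃ x : Matrix.ProjectiveSpecialLinearGroup (Fin n) (ZMod 3), orderOf x = 121 := by
  have hdet : A.det = 1 := by
    have h1 : (A.det ^ 11) ^ 11 = 1 := by rw [← Matrix.det_pow, hA, ← Matrix.det_pow, hB, Matrix.det_one]
    revert h1
    generalize A.det = x
    revert x
    decide
  let a : Matrix.SpecialLinearGroup (Fin n) (ZMod 3) := ⟨A, hdet⟩
  have ha : (a ^ 11).1 = B := by rw [Matrix.SpecialLinearGroup.coe_pow]; exact hA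
  have h121 : a ^ (11 ^ (1 + 1)) = 1 := by
    apply Subtype.ext
    rw [show 11 ^ (1 + 1) = 11 * 11 by norm_num, pow_mul, Matrix.SpecialLinearGroup.coe_pow, ha]
    exact hB
  have hfact : Fact (Nat.Prime 11) := ⟨by norm_num⟩
  refine ⟨QuotientGroup.mk a, ?_⟩
  have h := orderOf_eq_prime_pow (x := (QuotientGroup.mk a : Matrix.ProjectiveSpecialLinearGroup (Fin n) (ZMod 3)))
    (p := 11) (n := 1) ?_ ?_
  · rw [h]; norm_num
  · rw [pow_one, ← QuotientGroup.mk_pow]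
    intro h1
    have h2 : a ^ 11 ∈ Subgroup.center (Matrix.SpecialLinearGroup (Fin n) (ZMod 3)) := (QuotientGroup.eq_one_iff _).1 h1
    rw [Matrix.SpecialLinearGroup.mem_center_iff] at h2
    obtain ⟨r, -, hr⟩ := h2
    exact hn r (hr.trans ha)
  · rw [← QuotientGroup.mk_pow, h121]; rfl

/-- **Elements of order 121.** -/
theorem psl_121 {n : ℕ} (hn : n = 5 ∨ n = 6) {S : Type u} [Group S] (h : Cfsg.Agent.OrdDiv.Real (.psl n 3) S) :
    ∃ s : S, orderOf s = 121 := by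
  obtain ⟨F, iF, iF', hF, ⟨e⟩⟩ := h
  let e2 : Matrix.ProjectiveSpecialLinearGroup (Fin n) (ZMod 3) ≃* Matrix.ProjectiveSpecialLinearGroup (Fin n) F :=
    Cfsg.Agent.LieClassical.FieldTransfer.pslCongr (FiniteField.ringEquivOfCardEq (K := ZMod 3) (K' := F)
      (by rw [hF, ZMod.card]))
  have h1 : ∃ x : Matrix.ProjectiveSpecialLinearGroup (Fin n) (ZMod 3), orderOf x = 121 := by
    rcases hn with rfl | rfl
    · exact exists_of A5_pow B5_pow B5_ne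
    · exact exists_of A6_pow B6_pow B6_ne
  obtain ⟨x, hx⟩ := h1
  exact ⟨(e.trans e2.symm).symm x, by rw [MulEquiv.orderOf_eq, hx]⟩

end Cfsg.Agent.H416.Sp.LThree
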