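import Cfsg.Agent.H416.Sp.FrobRel
import Cfsg.Agent.KFacts.SuzRho
import Cfsg.Agent.KFacts.SuzLFour

/-!
# The subgroup `3 ^ 5 : 11` of the Suzuki group (helper416, task 1829)
-/

set_option autoImplicit false

namespace Cfsg.Agent.H416.Sp.SuzF

open Subgroup Cfsg Cfsg.Spor
open Cfsg.Agent.Lib.PermNet Cfsg.Agent.SporadicRecognition.SuzPhi
open Cfsg.Agent.SporadicRecognition.SuzOrder Cfsg.Agent.SuzThree.Basic
  Cfsg.Agent.KFacts.SuzLFour Cfsg.Agent.KFacts.SuzRho

/-- a word of order 11 -/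
def xw : List Suz.Gen := [.e, .c, .g, .d, .b, .f]

/-- a word of order 3 -/
def ew : List Suz.Gen := [.a, .b, .g, .c, .d, .a, .b, .a, .b, .c, .d, .e, .c, .b, .a, .b, .a, .d, .c, .g, .b, .a]

theorem x_pow : el xw ^ 11 = 1 := by
  rw [← el_rp]
  exact el_eq_one (by decide +kernel)

theorem e_pow : el ew ^ 3 = 1 := by
  rw [← el_rp]
  exact el_eq_one (by decide +kernel)

theorem ex_pow : (el ew * el xw) ^ 11 = 1 := by
  rw [← el_append, ← el_rp]
  exact el_eq_one (by decide +kernel)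

theorem e_ne : el ew ≠ 1 := ne_one_of 0 (by decide +kernel)

theorem comm_aux : ∀ k < 11, checkEq 11 (wd (ew ++ (rp xw k ++ ew ++ (rp xw k).reverse)))
    (wd ((rp xw k ++ ew ++ (rp xw k).reverse) ++ ew)) = true := by decide +kernel

theorem comm : ∀ k < 11, Commute (el ew) (el xw ^ k * el ew * (el xw ^ k)⁻¹) := by
  intro k hk
  have h := comm_of (comm_aux k hk)
  rw [el_append, el_append, el_reverse, el_rp] at h
  exact h

/-- **`3 ^ 5 : 11` in the Suzuki group.** -/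
theorem suz_frob {S : Type*} [Group S] (h : Spor.IsoSuz S) :
    ∃ (A : Subgroup S) (x : S), IsPGroup 3 A ∧ A ≠ ⊥ ∧ orderOf x = 11 ∧ (∀ y ∈ A, x * y * x⁻¹ ∈ A) ∧
      ∀ i, 0 < i → i < 11 → ∀ y ∈ A, x ^ i * y = y * x ^ i → y = 1 := by
  obtain ⟨φ⟩ := h
  set x := φ.symm (el xw) with hx
  set e := φ.symm (el ew) with he
  have h1 : x ^ 11 = 1 := by rw [hx, ← map_pow, x_pow, map_one]
  have h2 : e ^ 3 = 1 := by rw [he, ← map_pow, e_pow, map_one]
  have h3 : e ≠ 1 := fun h => e_ne ((map_eq_one_iff φ.symm φ.symm.injective).1 h)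
  have h4 : (e * x) ^ 11 = 1 := by rw [hx, he, ← map_mul, ← map_pow, ex_pow, map_one]
  have h5 : ∀ k < 11, Commute e (x ^ k * e * (x ^ k)⁻¹) := by
    intro k hk
    have h6 := (comm k hk).map φ.symm
    simp only [map_mul, map_inv, map_pow] at h6
    exact h6
  obtain ⟨hxo, A, hA, heA, hn, hf⟩ := frob_of_rel (by norm_num : Nat.Prime 3) (by norm_num : Nat.Prime 11) (by norm_num)
    h1 h2 h3 h4 h5
  exact ⟨A, x, hA, fun h => h3 (by rw [h] at heA; exact heA), hxo, hn, hf⟩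

end Cfsg.Agent.H416.Sp.SuzF
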