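import Cfsg.Agent.H31.Sp.Front
import Cfsg.Agent.H421.Narrow
import Cfsg.Agent.H421.Outer
import Cfsg.Agent.H403.GroupLift
import Cfsg.Agent.H416.Sp.Mod
import Cfsg.Agent.H416.Sp.Cnt
import Cfsg.Agent.H416.Sp.SuzF
import Cfsg.Agent.H416.Sp.FiO
import Cfsg.Agent.H416.Sp.LThree
import Cfsg.Agent.H416.Sp.SuzN

/-!
# Groups with the spectrum of `Alt n`, `Sym n`, `n = 13, 14` (helper416, task 1829)

`frame` : the solvable radical `K` and the simple section `S`; `13 ∤ |K|`, `13 ∣ |S|`.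
-/

set_option autoImplicit false

namespace Cfsg.Agent.H416.Sp

open Cfsg Subgroup Cfsg.Agent.H357.Sp Cfsg.Agent.H414.Comp Cfsg.Agent.H414.Rad Cfsg.Agent.H31.SpFront
open Cfsg.Agent.H267.Sp.SpecAlt Cfsg.Agent.OrdDiv Cfsg.Agent.H436 Cfsg.Agent.H421

/-! ### forbidden orders -/

section orders

variable {ε n : ℕ} {G : Type*} [Group G]

theorem Spec.no_order (h : Spec ε n G) {k : ℕ} (hk : n < W k + (if Even k then ε else 0)) (g : G) : orderOf g ≠ k := by
  intro hg
  have h1 := h.up g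
  rw [hg] at h1
  omega

theorem Spec.no_of_W (h : Spec ε n G) {k : ℕ} (hk : n < W k) (g : G) : orderOf g ≠ k :=
  Spec.no_order h (by omega) g

theorem Spec.no_two (h : Spec ε n G) {p q : ℕ} (hp : p.Prime) (hq : q.Prime) (hpq : p ≠ q) (hn : n < p + q) (g : G) :
    orderOf g ≠ p * q :=
  Spec.no_of_W h (by rw [W_two hp hq hpq]; exact hn) g

theorem W44 : W (11 * 4) = 15 := by
  rw [W_mul (by norm_num) (by norm_num) (by norm_num), show (4 : ℕ) = 2 ^ 2 by norm_num,
    W_pow Nat.prime_two (by norm_num), W_prime (by norm_num)]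
  norm_num

theorem W66 : W (11 * 6) = 16 := by
  rw [W_mul (by norm_num) (by norm_num) (by norm_num), W6, W_prime (by norm_num)]

theorem W105 : W 105 = 15 := by
  rw [show (105 : ℕ) = 3 * 35 by norm_num, W_mul (by norm_num) (by norm_num) (by norm_num), W_prime (by norm_num),
    show (35 : ℕ) = 5 * 7 by norm_num, W_mul (by norm_num) (by norm_num) (by norm_num), W_prime (by norm_num),
    W_prime (by norm_num)]

theorem W33 : W 33 = 14 := by
  rw [show (33 : ℕ) = 3 * 11 by norm_num, W_mul (by norm_num) (by norm_num) (by norm_num), W_prime (by norm_num),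
    W_prime (by norm_num)]

theorem W35 : W 35 = 12 := by
  rw [show (35 : ℕ) = 5 * 7 by norm_num, W_mul (by norm_num) (by norm_num) (by norm_num), W_prime (by norm_num),
    W_prime (by norm_num)]

theorem W16 : W 16 = 16 := by
  rw [show (16 : ℕ) = 2 ^ 4 by norm_num, W_pow Nat.prime_two (by norm_num)]

theorem W25 : W (5 ^ 2) = 25 := by
  rw [W_pow (by norm_num) (by norm_num)]; norm_num

theorem W121 : W 121 = 121 := by
  rw [show (121 : ℕ) = 11 ^ 2 by norm_num, W_pow (by norm_num) (by norm_num)]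

end orders

/-! ### the frame -/

/-- the frame -/
structure Frm (ε n : ℕ) (G : Type) [Group G] [Finite G] (K : Subgroup G) [K.Normal] (S : Subgroup (G ⧸ K)) : Prop where
  hn : n = 13 ∨ n = 14
  spec : Spec ε n G
  solv : Group.IsSolvable ↥K
  comp : IsComp S
  cent : centralizer (S : Set (G ⧸ K)) = ⊥
  card : Nat.card G = Nat.card ↥S * (Nat.card ↥K * S.index)
  coc : ∀ r s t : ℕ, r.Prime → s.Prime → t.Prime → r ≠ s → r ≠ t → s ≠ t → r ≠ 2 → s ≠ 2 → t ≠ 2 → r ≤ 13 → s ≤ 13 →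
    t ≤ 13 → n < r + s → n < r + t → n < s + t → r ∣ Nat.card ↥K * S.index → ¬ s ∣ Nat.card ↥K * S.index
  altL2 : AltL2 ↥S ∨ (¬ 13 ∣ Nat.card ↥K ∧ ¬ 13 ∣ S.index)

theorem frame {ε n : ℕ} (hn : n = 13 ∨ n = 14) {G : Type} [Group G] [Finite G] (hV : VM G)
    (h : Spec ε n G) :
    ∃ (K : Subgroup G) (_ : K.Normal) (S : Subgroup (G ⧸ K)) (_ : S.Normal), Frm ε n G K S := by
  have hcoc : ∀ r s t : ℕ, r.Prime → s.Prime → t.Prime → r ≠ s → r ≠ t → s ≠ t → r ≠ 2 → s ≠ 2 → t ≠ 2 → r ≤ 13 → s ≤ 13 →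
      t ≤ 13 → n < r + s → n < r + t → n < s + t → (∀ r' ∈ ({r, s, t} : Finset ℕ), r'.Prime ∧ r' ∣ Nat.card G) ∧
        (∀ r' ∈ ({r, s, t} : Finset ℕ), ∀ s' ∈ ({r, s, t} : Finset ℕ), r' ≠ s' → ¬ ∃ x : G, orderOf x = r' * s') := by
    intro r s t hr hs ht hrs hrt hst hr2 hs2 ht2 hr13 hs13 ht13 n1 n2 n3
    constructor
    · intro x hx
      simp only [Finset.mem_insert, Finset.mem_singleton] at hx
      rcases hx with rfl | rfl | rfl
      · exact ⟨hr, Spec_dvd_card h hr hr2 (by omega)⟩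
      · exact ⟨hs, Spec_dvd_card h hs hs2 (by omega)⟩
      · exact ⟨ht, Spec_dvd_card h ht ht2 (by omega)⟩
    · intro x hx y hy hxy
      simp only [Finset.mem_insert, Finset.mem_singleton] at hx hy
      rcases hx with rfl | rfl | rfl <;> rcases hy with rfl | rfl | rfl
      · exact absurd rfl hxy
      · exact Spec_not_mul h hr hs hrs n1
      · exact Spec_not_mul h hr ht hrt n2
      · exact Spec_not_mul h hs hr hxy (by omega)
      · exact absurd rfl hxy
      · exact Spec_not_mul h hs ht hst n3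
      · exact Spec_not_mul h ht hr hxy (by omega)
      · exact Spec_not_mul h ht hs hxy (by omega)
      · exact absurd rfl hxy
  have hc3 : ∀ r s t : ℕ, r ≠ s → r ≠ t → s ≠ t → 3 ≤ ({r, s, t} : Finset ℕ).card := by
    intro r s t hrs hrt hst
    rw [Finset.card_eq_three.2 ⟨r, s, t, hrs, hrt, hst, rfl⟩]
  have p7 : Nat.Prime 7 := by norm_num
  have p11 : Nat.Prime 11 := by norm_num
  have p13 : Nat.Prime 13 := by norm_num
  have hG : ¬ Group.IsSolvable G := (Cfsg.Agent.S3633.result {7, 11, 13} (hc3 7 11 13 (by norm_num) (by norm_num) (by norm_num))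
    (hcoc 7 11 13 p7 p11 p13 (by norm_num) (by norm_num) (by norm_num) (by norm_num) (by norm_num) (by norm_num)
      (by norm_num) (by norm_num) (by norm_num) (by omega) (by omega) (by omega)) ⊥ inferInstance).2
  have d13 := Spec_dvd_card h p13 (by norm_num) (by omega)
  have h2p : ¬ ∃ x : G, orderOf x = 2 * 13 := Spec_not_mul h Nat.prime_two p13 (by norm_num) (by omega)
  obtain ⟨K, hKn, hKs, hK⟩ := Cfsg.Agent.H366.AlmostSimple.exists_radical G
  have hKmax : ∀ M : Subgroup G, M.Normal → Group.IsSolvable ↥M → M ≤ K := by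
    intro M hM hMs
    have h4 := hK (M.map (QuotientGroup.mk' K)) (hM.map _ (QuotientGroup.mk'_surjective K))
      (Group.isSolvable_of_surjective (f := (QuotientGroup.mk' K).subgroupMap M)
        ((QuotientGroup.mk' K).subgroupMap_surjective M))
    rwa [Subgroup.map_eq_bot_iff, QuotientGroup.ker_mk'] at h4
  obtain ⟨S, hS, hSn, hSc, h4, h5⟩ := hV hG ⟨13, p13, by norm_num, d13, h2p⟩ K hKs hKmax
  refine ⟨K, hKn, S, hSn, hn, h, hKs, hS, hSc, ?_, ?_, ?_⟩
  · rw [Subgroup.card_eq_card_quotient_mul_card_subgroup K, ← Subgroup.card_mul_index S]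
    ring
  · intro r s t hr hs ht hrs hrt hst hr2 hs2 ht2 hr13 hs13 ht13 n1 n2 n3 hrK hsK
    exact hrs (h4 {r, s, t} (hcoc r s t hr hs ht hrs hrt hst hr2 hs2 ht2 hr13 hs13 ht13 n1 n2 n3) (hc3 r s t hrs hrt hst)
      r (by simp) s (by simp) hrK hsK)
  · exact h5.imp id fun h6 => h6 13 p13 (by norm_num) d13 h2p

section

variable {ε n : ℕ} {G : Type} [Group G] [Finite G] {K : Subgroup G} [K.Normal] {S : Subgroup (G ⧸ K)}

theorem Frm.dvdG (D : Frm ε n G K S) {p : ℕ} (hp : p.Prime) (hp2 : p ≠ 2) (h13 : p ≤ 13) : p ∣ Nat.card G :=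
  Spec_dvd_card D.spec hp hp2 (by rcases D.hn with h | h <;> omega)

theorem Frm.sm (D : Frm ε n G K S) : Narrow.Sm (Nat.card ↥S) := by
  intro p hp hd
  have h1 := Spec_le D.spec hp (hd.trans (Dvd.intro _ D.card.symm))
  have h2 : p ≠ 14 := by rintro rfl; revert hp; norm_num
  rcases D.hn with h | h <;> omega

/-- one of two primes of a coclique divides `|S|` -/
theorem Frm.dvd_or (D : Frm ε n G K S) {r s t : ℕ} (hr : r.Prime) (hs : s.Prime) (ht : t.Prime) (hrs : r ≠ s)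
    (hrt : r ≠ t) (hst : s ≠ t) (hr2 : r ≠ 2) (hs2 : s ≠ 2) (ht2 : t ≠ 2) (hr13 : r ≤ 13) (hs13 : s ≤ 13) (ht13 : t ≤ 13)
    (n1 : 14 < r + s) (n2 : 14 < r + t) (n3 : 14 < s + t) : r ∣ Nat.card ↥S ∨ s ∣ Nat.card ↥S := by
  have hn14 : n ≤ 14 := by rcases D.hn with h | h <;> omega
  by_contra hcon
  push Not at hcon
  have h1 := D.dvdG hr hr2 hr13
  have h2 := D.dvdG hs hs2 hs13
  rw [D.card] at h1 h2
  exact D.coc r s t hr hs ht hrs hrt hst hr2 hs2 ht2 hr13 hs13 ht13 (by omega) (by omega) (by omega)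
    ((hr.dvd_mul.1 h1).resolve_left hcon.1) ((hs.dvd_mul.1 h2).resolve_left hcon.2)

theorem Frm.d1 (D : Frm ε n G K S) : 7 ∣ Nat.card ↥S ∨ 11 ∣ Nat.card ↥S :=
  D.dvd_or (t := 13) (by norm_num) (by norm_num) (by norm_num) (by norm_num) (by norm_num) (by norm_num) (by norm_num)
    (by norm_num) (by norm_num) (by norm_num) (by norm_num) (by norm_num) (by norm_num) (by norm_num) (by norm_num)

theorem Frm.d2 (D : Frm ε n G K S) : 7 ∣ Nat.card ↥S ∨ 13 ∣ Nat.card ↥S :=
  D.dvd_or (t := 11) (by norm_num) (by norm_num) (by norm_num) (by norm_num) (by norm_num) (by norm_num) (by norm_num)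
    (by norm_num) (by norm_num) (by norm_num) (by norm_num) (by norm_num) (by norm_num) (by norm_num) (by norm_num)

theorem Frm.d3 (D : Frm ε n G K S) : 11 ∣ Nat.card ↥S ∨ 13 ∣ Nat.card ↥S :=
  D.dvd_or (t := 7) (by norm_num) (by norm_num) (by norm_num) (by norm_num) (by norm_num) (by norm_num) (by norm_num)
    (by norm_num) (by norm_num) (by norm_num) (by norm_num) (by norm_num) (by norm_num) (by norm_num) (by norm_num)

theorem Frm.d4 (D : Frm ε n G K S) : 5 ∣ Nat.card ↥S ∨ 11 ∣ Nat.card ↥S :=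
  D.dvd_or (t := 13) (by norm_num) (by norm_num) (by norm_num) (by norm_num) (by norm_num) (by norm_num) (by norm_num)
    (by norm_num) (by norm_num) (by norm_num) (by norm_num) (by norm_num) (by norm_num) (by norm_num) (by norm_num)

theorem chk_l2 : ∀ q ∈ Narrow.qL, q % 2 = 1 → (7 ∣ q * (q ^ 2 - 1) ∨ 11 ∣ q * (q ^ 2 - 1)) →
    (7 ∣ q * (q ^ 2 - 1) ∨ 13 ∣ q * (q ^ 2 - 1)) → (11 ∣ q * (q ^ 2 - 1) ∨ 13 ∣ q * (q ^ 2 - 1)) →
    (5 ∣ q * (q ^ 2 - 1) ∨ 11 ∣ q * (q ^ 2 - 1)) → False := by decide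

theorem Frm.not_altL2 (D : Frm ε n G K S) : ¬ AltL2 ↥S := by
  have h1 := D.d1
  have h2 := D.d2
  have h3 := D.d3
  have h4 := D.d4
  have hsm := D.sm
  rintro (⟨⟨e⟩⟩ | ⟨F, _, _, ho, ⟨e⟩⟩)
  · have h5 : Nat.card ↥S = 2520 := by
      rw [Nat.card_congr e.toEquiv, nat_card_alternatingGroup]
      simp [Nat.factorial]
    rw [h5] at h3
    revert h3
    decide
  · have hq : 2 ≤ Fintype.card F := Fintype.one_lt_card
    have h5 := psl_eq (F := F) (n := 2) le_rfl
    rw [← Nat.card_congr e.toEquiv] at h5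
    have h6 : den (.psl 2 (Fintype.card F)) * Nat.card ↥S = num (.psl 2 (Fintype.card F)) := h5
    have h7 := psl_two_factors hq h6
    have h8 := Narrow.q_mem (FiniteField.isPrimePow_card F) (Narrow.sm_mq_two hq h6 hsm)
    have h9 : ∀ p : ℕ, p.Prime → p ∣ Nat.card ↥S → p ∣ Fintype.card F * (Fintype.card F ^ 2 - 1) := by
      intro p hp hd
      have h10 : p ∈ (Nat.card ↥S).primeFactors := Nat.mem_primeFactors.2 ⟨hp, hd, Nat.card_pos.ne'⟩
      rw [h7] at h10
      exact Nat.dvd_of_mem_primeFactors h10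
    exact chk_l2 _ h8 (Nat.odd_iff.1 ho) (h1.imp (h9 7 (by norm_num)) (h9 11 (by norm_num)))
      (h2.imp (h9 7 (by norm_num)) (h9 13 (by norm_num))) (h3.imp (h9 11 (by norm_num)) (h9 13 (by norm_num)))
      (h4.imp (h9 5 (by norm_num)) (h9 11 (by norm_num)))

theorem Frm.no13 (D : Frm ε n G K S) : ¬ 13 ∣ Nat.card ↥K ∧ ¬ 13 ∣ S.index := D.altL2.resolve_left D.not_altL2

theorem Frm.d13 (D : Frm ε n G K S) : 13 ∣ Nat.card ↥S := by
  have h1 := D.dvdG (p := 13) (by norm_num) (by norm_num) le_rfl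
  rw [D.card] at h1
  have p13 : Nat.Prime 13 := by norm_num
  rcases p13.dvd_mul.1 h1 with h | h
  · exact h
  · rcases p13.dvd_mul.1 h with h | h
    · exact absurd h D.no13.1
    · exact absurd h D.no13.2

theorem Frm.iso13 (D : Frm ε n G K S) (r : ℕ) (hr : r.Prime) (hr13 : r ≠ 13) (g : G) : orderOf g ≠ 13 * r :=
  Spec.no_two D.spec (by norm_num) hr (Ne.symm hr13) (by have := hr.two_le; rcases D.hn with h | h <;> omega) g

theorem lift_order {k : ℕ} (h : ∃ s : G ⧸ K, orderOf s = k) : ∃ g : G, orderOf g = k := by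
  obtain ⟨s, hs⟩ := h
  obtain ⟨g, hg, -⟩ := Act.orderOf_lift (QuotientGroup.mk' K) (QuotientGroup.mk'_surjective K) s
  exact ⟨g, by rw [hg, hs]⟩

theorem lift_order' {k : ℕ} (h : ∃ s : S, orderOf s = k) : ∃ g : G, orderOf g = k := by
  obtain ⟨s, hs⟩ := h
  exact lift_order ⟨(s : G ⧸ K), by rw [Subgroup.orderOf_coe, hs]⟩

end

end Cfsg.Agent.H416.Sp
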