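import Mathlib

/-!
# Frobenius subgroups from relations (helper416, task 1829)

`frob_of_rel` : `x ^ r = e ^ p = (e x) ^ r = 1`, `e ≠ 1` and `e` commutes with its conjugates under `x`: the conjugates
generate a `p`-group on which `x` acts as a Frobenius complement.
-/

set_option autoImplicit false

namespace Cfsg.Agent.H416.Sp

open Subgroup

variable {X : Type*} [Group X]

/-- the product of the first `n` conjugates -/
def pc (x y : X) (n : ℕ) : X := ((List.range n).map fun i => x ^ i * y * (x ^ i)⁻¹).prod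

theorem pc_zero (x y : X) : pc x y 0 = 1 := rfl

theorem pc_succ (x y : X) (n : ℕ) : pc x y (n + 1) = pc x y n * (x ^ n * y * (x ^ n)⁻¹) := by
  rw [pc, pc, List.range_succ, List.map_append, List.prod_append]
  simp

theorem mul_pow_pc (x y : X) (n : ℕ) : (y * x) ^ n = pc x y n * x ^ n := by
  induction n with
  | zero => simp [pc_zero]
  | succ n ih =>
    rw [pow_succ, ih, pc_succ, pow_succ]
    group

/-- **Frobenius subgroups from relations.** -/
theorem frob_of_rel {p r : ℕ} (hp : p.Prime) (hr : r.Prime) (hpr : p ≠ r) {x e : X} (hx : x ^ r = 1) (he : e ^ p = 1)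
    (he1 : e ≠ 1) (hex : (e * x) ^ r = 1) (hc : ∀ k < r, Commute e (x ^ k * e * (x ^ k)⁻¹)) :
    orderOf x = r ∧ ∃ A : Subgroup X, IsPGroup p A ∧ e ∈ A ∧ (∀ y ∈ A, x * y * x⁻¹ ∈ A) ∧
      ∀ i, 0 < i → i < r → ∀ y ∈ A, x ^ i * y = y * x ^ i → y = 1 := by
  have hfr : Fact r.Prime := ⟨hr⟩
  have hcop : Nat.Coprime p r := (Nat.coprime_primes hp hr).2 hpr
  have hone : ∀ y : X, y ^ p = 1 → y ^ r = 1 → y = 1 := by
    intro y h1 h2
    exact orderOf_eq_one_iff.1 (Nat.eq_one_of_dvd_coprimes hcop (orderOf_dvd_of_pow_eq_one h1)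
      (orderOf_dvd_of_pow_eq_one h2))
  have hxo : orderOf x = r := by
    apply orderOf_eq_prime hx
    rintro rfl
    rw [mul_one] at hex
    exact he1 (hone e he hex)
  refine ⟨hxo, ?_⟩
  set E : Set X := Set.range fun k : ℕ => x ^ k * e * (x ^ k)⁻¹ with hE
  -- commuting
  have hc' : ∀ k : ℕ, Commute e (x ^ k * e * (x ^ k)⁻¹) := by
    intro k
    have h1 : x ^ k = x ^ (k % r) := by rw [← hxo, pow_mod_orderOf]
    rw [h1]
    exact hc _ (Nat.mod_lt _ hr.pos)
  have hle : ∀ j k : ℕ, j ≤ k → Commute (x ^ j * e * (x ^ j)⁻¹) (x ^ k * e * (x ^ k)⁻¹) := by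
    intro j k hjk
    obtain ⟨d, rfl⟩ := Nat.exists_eq_add_of_le hjk
    have h1 := (hc' d).eq
    change _ = _
    calc x ^ j * e * (x ^ j)⁻¹ * (x ^ (j + d) * e * (x ^ (j + d))⁻¹)
        = x ^ j * (e * (x ^ d * e * (x ^ d)⁻¹)) * (x ^ j)⁻¹ := by rw [pow_add]; group
      _ = x ^ j * (x ^ d * e * (x ^ d)⁻¹ * e) * (x ^ j)⁻¹ := by rw [h1]
      _ = x ^ (j + d) * e * (x ^ (j + d))⁻¹ * (x ^ j * e * (x ^ j)⁻¹) := by rw [pow_add]; group
  have hEE : ∀ a ∈ E, ∀ b ∈ E, a * b = b * a := by
    rintro _ ⟨j, rfl⟩ _ ⟨k, rfl⟩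
    rcases le_total j k with h | h
    · exact (hle j k h).eq
    · exact (hle k j h).symm.eq
  set A : Subgroup X := closure E with hA
  have hAA : ∀ a ∈ A, ∀ b ∈ A, a * b = b * a := by
    intro a ha b hb
    have h1 : IsMulCommutative A := Subgroup.isMulCommutative_closure hEE
    exact congrArg Subtype.val (isMulCommutative_iff.1 h1 (⟨a, ha⟩ : A) ⟨b, hb⟩)
  have hexp : ∀ a ∈ A, a ^ p = 1 := by
    intro a ha
    induction ha using Subgroup.closure_induction with
    | mem a ha =>
      obtain ⟨k, rfl⟩ := ha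
      simp only
      rw [conj_pow, he, mul_one, mul_inv_cancel]
    | one => exact one_pow p
    | mul a b ha hb iha ihb =>
      have h1 : Commute a b := hAA a ha b hb
      rw [h1.mul_pow, iha, ihb, mul_one]
    | inv a ha iha => rw [inv_pow, iha, inv_one]
  have hconj : ∀ y ∈ A, x * y * x⁻¹ ∈ A := by
    intro a ha
    induction ha using Subgroup.closure_induction with
    | mem a ha =>
      obtain ⟨k, rfl⟩ := ha
      apply Subgroup.subset_closure
      refine ⟨k + 1, ?_⟩
      simp only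
      rw [pow_succ']; group
    | one => rw [mul_one, mul_inv_cancel]; exact one_mem _
    | mul a b ha hb iha ihb =>
      have h1 : x * (a * b) * x⁻¹ = (x * a * x⁻¹) * (x * b * x⁻¹) := by group
      rw [h1]; exact mul_mem iha ihb
    | inv a ha iha =>
      have h1 : x * a⁻¹ * x⁻¹ = (x * a * x⁻¹)⁻¹ := by group
      rw [h1]; exact inv_mem iha
  have hconj' : ∀ n : ℕ, ∀ y ∈ A, x ^ n * y * (x ^ n)⁻¹ ∈ A := by
    intro n
    induction n with
    | zero => intro y hy; simpa using hy
    | succ n ih =>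
      intro y hy
      have h1 : x ^ (n + 1) * y * (x ^ (n + 1))⁻¹ = x * (x ^ n * y * (x ^ n)⁻¹) * x⁻¹ := by
        rw [pow_succ']; group
      rw [h1]
      exact hconj _ (ih y hy)
  have hpcA : ∀ (n : ℕ), ∀ y ∈ A, pc x y n ∈ A := by
    intro n
    induction n with
    | zero => intro y _; rw [pc_zero]; exact one_mem _
    | succ n ih => intro y hy; rw [pc_succ]; exact mul_mem (ih y hy) (hconj' n y hy)
  have hpcm : ∀ (n : ℕ), ∀ y ∈ A, ∀ z ∈ A, pc x (y * z) n = pc x y n * pc x z n := by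
    intro n
    induction n with
    | zero => intro y _ z _; simp [pc_zero]
    | succ n ih =>
      intro y hy z hz
      rw [pc_succ, pc_succ, pc_succ, ih y hy z hz]
      have h1 := hAA _ (hpcA n z hz) _ (hconj' n y hy)
      calc pc x y n * pc x z n * (x ^ n * (y * z) * (x ^ n)⁻¹)
          = pc x y n * (pc x z n * (x ^ n * y * (x ^ n)⁻¹)) * (x ^ n * z * (x ^ n)⁻¹) := by group
        _ = pc x y n * ((x ^ n * y * (x ^ n)⁻¹) * pc x z n) * (x ^ n * z * (x ^ n)⁻¹) := by rw [h1]
        _ = _ := by group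
  have hpc1 : ∀ n : ℕ, pc x 1 n = 1 := by
    intro n
    induction n with
    | zero => rfl
    | succ n ih => rw [pc_succ, ih]; group
  have hN : ∀ y ∈ A, pc x y r = 1 := by
    intro a ha
    induction ha using Subgroup.closure_induction with
    | mem a ha =>
      obtain ⟨k, rfl⟩ := ha
      have h1 := mul_pow_pc x e r
      rw [hex, hx, mul_one] at h1
      have h2 : ∀ n : ℕ, pc x (x ^ k * e * (x ^ k)⁻¹) n = x ^ k * pc x e n * (x ^ k)⁻¹ := by
        intro n
        induction n with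
        | zero => simp [pc_zero]
        | succ n ih =>
          rw [pc_succ, pc_succ, ih]
          have h3 : x ^ n * (x ^ k * e * (x ^ k)⁻¹) * (x ^ n)⁻¹ = x ^ k * (x ^ n * e * (x ^ n)⁻¹) * (x ^ k)⁻¹ := by
            have h4 : x ^ n * x ^ k = x ^ k * x ^ n := by rw [← pow_add, ← pow_add, add_comm]
            calc x ^ n * (x ^ k * e * (x ^ k)⁻¹) * (x ^ n)⁻¹ = (x ^ n * x ^ k) * e * (x ^ n * x ^ k)⁻¹ := by group
              _ = _ := by rw [h4]; group
          rw [h3]; group
      simp only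
      rw [h2, ← h1]; group
    | one => exact hpc1 r
    | mul a b ha hb iha ihb => rw [hpcm r a ha b hb, iha, ihb, mul_one]
    | inv a ha iha =>
      have h1 := hpcm r a ha a⁻¹ (inv_mem ha)
      rw [mul_inv_cancel, hpc1, iha, one_mul] at h1
      exact h1.symm
  refine ⟨A, ?_, ?_, hconj, ?_⟩
  · intro a
    exact ⟨1, by rw [pow_one]; exact Subtype.ext (hexp a a.2)⟩
  · exact Subgroup.subset_closure ⟨0, by simp⟩
  · intro i hi0 hir y hy hcomm
    -- `x` commutes with `y`
    have h1 : Commute (x ^ i) y := hcomm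
    have h2 : Commute x y := by
      have h3 : Nat.Coprime i r := by
        rw [Nat.coprime_comm, Nat.Prime.coprime_iff_not_dvd hr]
        exact fun h => absurd (Nat.le_of_dvd hi0 h) (by omega)
      obtain ⟨s, t, hst⟩ : ∃ s t : ℤ, s * i + t * r = 1 := Nat.isCoprime_iff_coprime.2 h3
      have h4 : x = (x ^ i) ^ s * (x ^ r) ^ t := by
        rw [← zpow_natCast, ← zpow_natCast, ← zpow_mul, ← zpow_mul, ← zpow_add, mul_comm (i : ℤ), mul_comm (r : ℤ), hst,
          zpow_one]
      rw [h4, hx, one_zpow, mul_one]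
      exact h1.zpow_left s
    have h3 := hN y hy
    have h4 := mul_pow_pc x y r
    rw [h3, hx, one_mul, h2.symm.mul_pow, hx, mul_one] at h4
    exact hone y (hexp y hy) h4

end Cfsg.Agent.H416.Sp
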